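import Cfsg.Agent.Lib.Lead.Co3.Real
import Cfsg.Prelude.Def_Spor_Conway

/-!
# The third Conway group of the statements is isomorphic to the permutation group on 276 points
-/

set_option autoImplicit false

namespace Cfsg.Agent.Co3P

open Cfsg Cfsg.Agent.Lib.Helper6.Leech Cfsg.Agent.Lib.Helper6.Golay Cfsg.Agent.PG

theorem u0_eq_neg : u0 = -Spor.leechV := by
  apply Subtype.ext
  funext k
  show (u0 : GolayPt → ℤ) k = -(Spor.vecV k)
  rw [u0_apply, Spor.vecV]
  split_ifs <;> norm_num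

theorem mem_Co3_iff (σ : Equiv.Perm leechLattice) :
    σ ∈ Spor.Co3 ↔ ∃ h : σ ∈ Co0, (⟨σ, h⟩ : Co0) ∈ co3Ref := by
  constructor
  · rintro ⟨h0, hv⟩
    refine ⟨h0, ?_⟩
    have hv' : σ Spor.leechV = Spor.leechV := hv
    show (⟨σ, h0⟩ : Co0).1 u0 = u0
    rw [u0_eq_neg, co0_neg]
    show -(σ Spor.leechV) = _
    rw [hv']
  · rintro ⟨h0, h⟩
    have e1 : (⟨σ, h0⟩ : Co0).1 u0 = u0 := h
    have hv : σ Spor.leechV = Spor.leechV := by
      have : Spor.leechV = -u0 := by rw [u0_eq_neg, neg_neg]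
      rw [this]
      have := co0_neg ⟨σ, h0⟩ u0
      rw [e1] at this
      exact this
    exact ⟨h0, hv⟩

/-- the group of the statements is the reference stabiliser -/
noncomputable def sporEquiv : ↥Spor.Co3 ≃* ↥co3Ref where
  toFun σ := ⟨⟨σ.1, ((mem_Co3_iff σ.1).1 σ.2).choose⟩, ((mem_Co3_iff σ.1).1 σ.2).choose_spec⟩
  invFun g := ⟨g.1.1, (mem_Co3_iff g.1.1).2 ⟨g.1.2, g.2⟩⟩
  left_inv _ := rfl
  right_inv _ := rfl
  map_mul' _ _ := rfl

/-- **The third Conway group is isomorphic to the permutation group `P` on 276 points.** -/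
noncomputable def co3Equiv : ↥Spor.Co3 ≃* ↥P := sporEquiv.trans co3RefEquiv

theorem isSimple_P : IsSimpleGroup ↥P := by
  have : IsSimpleGroup ↥co3Ref := isSimpleGroup_co3Ref
  exact co3RefEquiv.symm.isSimpleGroup

end Cfsg.Agent.Co3P
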