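import Cfsg.Agent.Lib.Lead.Co3.Chk

/-!
# The third Conway group as a permutation group on 276 points

The stabiliser `co3Ref` of the reference vector `u0` of norm 48 permutes the 552 minimal vectors `x` with `x·u0 = 24`,
hence the 276 pairs `{x, u0 - x}`; this action is faithful and its image is the group `P` generated by two explicit
permutations, whose order is bounded below by a chain of partial transversals.
-/

set_option autoImplicit false

namespace Cfsg.Agent.Co3P

open Cfsg Cfsg.Agent.Lib.Helper6.Leech Cfsg.Agent.Lib.Helper6.Golay Cfsg.Agent.PG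

theorem n_le : (276 : ℕ) ≤ 512 := by norm_num

theorem vecOf_subL (u x : List ℤ) : vecOf (subL u x) = vecOf u - vecOf x := by
  funext p
  have hp := idx_lt p
  simp only [vecOf, subL, Pi.sub_apply]
  rw [List.getD_eq_getElem?_getD, List.getElem?_map, List.getElem?_range hp]
  rfl

theorem ptsAll_length : ptsAll.length = 552 := by
  rw [ptsAll, List.length_append, List.length_map, chk_len]

theorem pts_facts {x : List ℤ} (hx : x ∈ ptsAll) : inLeechL x = true ∧ normL x = 32 ∧ dotL u0L x = 24 ∧
    x.length = 24 := by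
  have := List.all_eq_true.1 chk_pts x hx
  simp only [Bool.and_eq_true, beq_iff_eq] at this
  obtain ⟨⟨⟨h1, h2⟩, h3⟩, h4⟩ := this
  exact ⟨h1, h2, h3, h4⟩

/-- the `k`-th list -/
def qL (k : Fin 552) : List ℤ := ptsAll[k.val]'(by rw [ptsAll_length]; exact k.2)

theorem qL_mem (k : Fin 552) : qL k ∈ ptsAll := List.getElem_mem _

/-- the `k`-th vector -/
def q (k : Fin 552) : GolayPt → ℤ := vecOf (qL k)

theorem q_lattice (k : Fin 552) : q k ∈ leechLattice :=
  mem_leechLattice.mpr (inLeechL_sound _ (pts_facts (qL_mem k)).1)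

theorem q_mem (k : Fin 552) : q k ∈ co3Set 24 := by
  obtain ⟨-, h2, h3, -⟩ := pts_facts (qL_mem k)
  refine ⟨q_lattice k, ?_, ?_⟩
  · show sqNorm (vecOf (qL k)) = 32
    rw [sqNorm_vecOf]; exact h2
  · show dotInt (vecOf u0L) (vecOf (qL k)) = 24
    rw [dotInt_vecOf]; exact h3

theorem q_injective : Function.Injective q := by
  intro i j h
  have h2 : qL i = qL j := by
    rw [← listOf_vecOf _ (pts_facts (qL_mem i)).2.2.2, ← listOf_vecOf _ (pts_facts (qL_mem j)).2.2.2]
    exact congrArg listOf h
  exact Fin.ext ((List.Nodup.getElem_inj_iff chk_nodup).1 h2)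

theorem range_q : Set.range q = co3Set 24 := by
  apply Set.eq_of_subset_of_ncard_le
  · rintro _ ⟨i, rfl⟩; exact q_mem i
  · rw [co3Set_24_ncard, Set.ncard_range_of_injective q_injective, Nat.card_fin]
  · exact Set.finite_of_ncard_ne_zero (by rw [co3Set_24_ncard]; norm_num)

theorem exists_q {x : GolayPt → ℤ} (hx : x ∈ co3Set 24) : ∃ k, q k = x := by
  rw [← range_q] at hx; exact hx

/-- the index of a vector -/
noncomputable def qidx (x : GolayPt → ℤ) (hx : x ∈ co3Set 24) : Fin 552 := (exists_q hx).choose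

theorem q_qidx (x : GolayPt → ℤ) (hx : x ∈ co3Set 24) : q (qidx x hx) = x := (exists_q hx).choose_spec

theorem qidx_q (k : Fin 552) (h : q k ∈ co3Set 24) : qidx (q k) h = k := q_injective (q_qidx _ _)

/-- the pair of a vector -/
def fold (k : Fin 552) : Fin 276 := ⟨k.val % 276, Nat.mod_lt _ (by norm_num)⟩

/-- the representative of a pair -/
def lo (i : Fin 276) : Fin 552 := ⟨i.val, by have := i.2; omega⟩

/-- the partner of the representative of a pair -/
def hi (i : Fin 276) : Fin 552 := ⟨i.val + 276, by have := i.2; omega⟩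

theorem fold_lo (i : Fin 276) : fold (lo i) = i := Fin.ext (Nat.mod_eq_of_lt i.2)

theorem fold_hi (i : Fin 276) : fold (hi i) = i := by
  apply Fin.ext
  show (i.val + 276) % 276 = i.val
  rw [Nat.add_mod_right, Nat.mod_eq_of_lt i.2]

theorem lo_or_hi (k : Fin 552) : k = lo (fold k) ∨ k = hi (fold k) := by
  rcases Nat.lt_or_ge k.val 276 with h | h
  · left; apply Fin.ext; show k.val = k.val % 276; rw [Nat.mod_eq_of_lt h]
  · right; apply Fin.ext; show k.val = k.val % 276 + 276
    have := k.2
    omega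

/-- the `i`-th representative list -/
def ptL (i : Fin 276) : List ℤ := ptsL[i.val]'(by rw [chk_len]; exact i.2)

theorem ptL_eq_getD (i : Fin 276) : ptL i = ptsL.getD i.val [] := by
  rw [ptL, List.getD_eq_getElem]

theorem qL_lo (i : Fin 276) : qL (lo i) = ptL i := by
  show ptsAll[i.val]'_ = _
  simp only [ptsAll]
  rw [List.getElem_append_left (by rw [chk_len]; exact i.2)]
  rfl

theorem qL_hi (i : Fin 276) : qL (hi i) = subL u0L (ptL i) := by
  show ptsAll[i.val + 276]'_ = _
  simp only [ptsAll]
  rw [List.getElem_append_right (by rw [chk_len]; omega)]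
  simp only [chk_len, Nat.add_sub_cancel, List.getElem_map]
  rfl

theorem q_hi (i : Fin 276) : q (hi i) = vecOf u0L - q (lo i) := by
  show vecOf (qL (hi i)) = vecOf u0L - vecOf (qL (lo i))
  rw [qL_hi, qL_lo, vecOf_subL]

theorem q_lo (i : Fin 276) : q (lo i) = vecOf u0L - q (hi i) := by
  rw [q_hi]; abel

/-- the image of a vector of the set under an element of the stabiliser -/
theorem image_mem (g : co3Ref) {x : GolayPt → ℤ} (hx : x ∈ co3Set 24) :
    ((g.1.1 ⟨x, hx.1⟩ : leechLattice) : GolayPt → ℤ) ∈ co3Set 24 := by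
  have hg : g.1.1 u0 = u0 := g.2
  refine ⟨(g.1.1 ⟨x, hx.1⟩).2, (co0_norm g.1 ⟨x, hx.1⟩).trans hx.2.1, ?_⟩
  have := co0_dot g.1 u0 ⟨x, hx.1⟩
  rw [hg] at this
  exact this.trans hx.2.2

/-- the action on the 552 indices -/
noncomputable def act (g : co3Ref) (k : Fin 552) : Fin 552 :=
  qidx _ (image_mem g (q_mem k))

theorem q_act (g : co3Ref) (k : Fin 552) :
    q (act g k) = ((g.1.1 ⟨q k, (q_mem k).1⟩ : leechLattice) : GolayPt → ℤ) := q_qidx _ _

theorem act_one (k : Fin 552) : act 1 k = k := q_injective (by rw [q_act]; rfl)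

theorem act_mul (g h : co3Ref) (k : Fin 552) : act (g * h) k = act g (act h k) := by
  apply q_injective
  rw [q_act, q_act]
  show ((g.1.1 (h.1.1 ⟨q k, _⟩) : leechLattice) : GolayPt → ℤ) = _
  congr 2
  apply Subtype.ext
  exact (q_act h k).symm

theorem image_sub (g : co3Ref) (x : leechLattice) : g.1.1 (u0 - x) = u0 - g.1.1 x := by
  have hg : g.1.1 u0 = u0 := g.2
  rw [sub_eq_add_neg, co0_add, co0_neg, hg, sub_eq_add_neg]

/-- the action commutes with the passage to the partner -/
theorem act_hi (g : co3Ref) (i : Fin 276) : fold (act g (hi i)) = fold (act g (lo i)) := by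
  have h1 : q (act g (hi i)) = vecOf u0L - q (act g (lo i)) := by
    rw [q_act, q_act]
    have e : (⟨q (hi i), (q_mem (hi i)).1⟩ : leechLattice) = u0 - ⟨q (lo i), (q_mem (lo i)).1⟩ := by
      apply Subtype.ext
      exact q_hi i
    rw [e, image_sub]
    rfl
  rcases lo_or_hi (act g (lo i)) with h | h
  · have h2 : q (act g (hi i)) = q (hi (fold (act g (lo i)))) := by
      rw [h1, q_hi, ← h]
    rw [q_injective h2, fold_hi]
  · have h2 : q (act g (hi i)) = q (lo (fold (act g (lo i)))) := by
      rw [h1, q_lo, ← h]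
    rw [q_injective h2, fold_lo]

/-- the action on the pairs -/
noncomputable def rhoFun (g : co3Ref) (i : Fin 276) : Fin 276 := fold (act g (lo i))

theorem fold_act (g : co3Ref) (k : Fin 552) : fold (act g k) = rhoFun g (fold k) := by
  rcases lo_or_hi k with h | h
  · rw [rhoFun, ← h]
  · rw [rhoFun, ← act_hi, ← h]

theorem rhoFun_one (i : Fin 276) : rhoFun 1 i = i := by rw [rhoFun, act_one, fold_lo]

theorem rhoFun_mul (g h : co3Ref) (i : Fin 276) : rhoFun (g * h) i = rhoFun g (rhoFun h i) := by
  rw [rhoFun, act_mul, fold_act, ← rhoFun]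

/-- the permutation representation -/
noncomputable def rho : co3Ref →* Equiv.Perm (Fin 276) where
  toFun g :=
    { toFun := rhoFun g
      invFun := rhoFun g⁻¹
      left_inv := fun i => by rw [← rhoFun_mul, inv_mul_cancel, rhoFun_one]
      right_inv := fun i => by rw [← rhoFun_mul, mul_inv_cancel, rhoFun_one] }
  map_one' := Equiv.ext rhoFun_one
  map_mul' g h := Equiv.ext (rhoFun_mul g h)

theorem rho_apply (g : co3Ref) (i : Fin 276) : rho g i = fold (act g (lo i)) := rfl

/-- the permutation of a good word -/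
theorem exists_rho_eq (w : List Prim) (hw : GoodWord [u0L] w) (c c' : ℕ) (hc : codeOK 276 c c' = true)
    (hact : ((List.range 276).all fun i =>
      (actW w (ptsL.getD i []) == ptsL.getD (lk c i) []) ||
      (actW w (ptsL.getD i []) == subL u0L (ptsL.getD (lk c i) []))) = true) :
    ∃ g : co3Ref, rho g = dec 276 c := by
  obtain ⟨t, ht⟩ := actW_sound w hw.1
  have h1 : t.1 u0 = u0 := by
    apply Subtype.ext
    show ((t.1 ⟨vecOf u0L, u0L_mem⟩ : leechLattice) : GolayPt → ℤ) = vecOf u0L
    rw [ht u0L u0L_mem]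
    exact hw.2 u0L List.mem_cons_self
  have hic := isCode_of_codeOK n_le hc
  refine ⟨⟨t, h1⟩, Equiv.ext fun i => ?_⟩
  rw [rho_apply]
  have hq : q (act ⟨t, h1⟩ (lo i)) = vecOf (actW w (ptL i)) := by
    rw [q_act]
    exact (ht (qL (lo i)) (q_mem (lo i)).1).trans (by rw [qL_lo])
  have := List.all_eq_true.1 hact i.val (List.mem_range.2 i.2)
  rw [Bool.or_eq_true, beq_iff_eq, beq_iff_eq, ← ptL_eq_getD] at this
  have hj : lk c i.val = (dec 276 c i).val := (dec_apply n_le hic i).symm
  rw [hj, ← ptL_eq_getD] at this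
  rcases this with h | h
  · have h2 : q (act ⟨t, h1⟩ (lo i)) = q (lo (dec 276 c i)) := by
      rw [hq, h]
      show _ = vecOf (qL (lo (dec 276 c i)))
      rw [qL_lo]
    rw [q_injective h2, fold_lo]
  · have h2 : q (act ⟨t, h1⟩ (lo i)) = q (hi (dec 276 c i)) := by
      rw [hq, h]
      show _ = vecOf (qL (hi (dec 276 c i)))
      rw [qL_hi]
    rw [q_injective h2, fold_hi]

/-- the first generator -/
noncomputable def gA : Equiv.Perm (Fin 276) := dec 276 ca
/-- the second generator -/
noncomputable def gB : Equiv.Perm (Fin 276) := dec 276 cb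

/-- the third Conway group on 276 points -/
noncomputable def P : Subgroup (Equiv.Perm (Fin 276)) := Subgroup.closure {gA, gB}

theorem isCode_ca : IsCode 276 ca := isCode_of_codeOK n_le chk_codes.1
theorem isCode_cb : IsCode 276 cb := isCode_of_codeOK n_le chk_codes.2.1

theorem enc_gA : enc 276 gA = ca := enc_dec isCode_ca
theorem enc_gB : enc 276 gB = cb := enc_dec isCode_cb
theorem enc_gAi : enc 276 gA⁻¹ = cai := by rw [← pinv_enc n_le, enc_gA]; exact chk_codes.2.2.1
theorem enc_gBi : enc 276 gB⁻¹ = cbi := by rw [← pinv_enc n_le, enc_gB]; exact chk_codes.2.2.2.1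

theorem gA_mem : gA ∈ P := Subgroup.subset_closure (Set.mem_insert _ _)
theorem gB_mem : gB ∈ P := Subgroup.subset_closure (Set.mem_insert_of_mem _ rfl)

theorem co3Gens_good : ∀ w ∈ co3Gens, GoodWord [u0L] w := goodWord_of_checkGens co3Perms_rep co3Gens_ok

theorem exists_rho_gA : ∃ g : co3Ref, rho g = gA :=
  exists_rho_eq wA (co3Gens_good wA (by simp [wA, co3Gens])) ca cai chk_codes.1 chk_actA

theorem exists_rho_gB : ∃ g : co3Ref, rho g = gB :=
  exists_rho_eq wB (co3Gens_good wB (by simp [wB, co3Gens])) cb cbi chk_codes.2.1 chk_actB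

theorem P_le : P ≤ rho.range := by
  rw [P, Subgroup.closure_le]
  intro g hg
  rcases hg with rfl | rfl
  · obtain ⟨g, hg⟩ := exists_rho_gA; exact ⟨g, hg⟩
  · obtain ⟨g, hg⟩ := exists_rho_gB; exact ⟨g, hg⟩

theorem gA_ne_one : gA ≠ 1 := by
  intro h
  have h1 := dec_apply n_le isCode_ca ⟨0, by norm_num⟩
  rw [show dec 276 ca = gA from rfl, h] at h1
  exact chk_codes.2.2.2.2 h1.symm

theorem rho_injective : Function.Injective rho := by
  have : IsSimpleGroup ↥co3Ref := isSimpleGroup_co3Ref
  rw [← MonoidHom.ker_eq_bot_iff]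
  rcases (rho.normal_ker).eq_bot_or_eq_top with h | h
  · exact h
  · exfalso
    obtain ⟨g, hg⟩ := exists_rho_gA
    have : g ∈ rho.ker := by rw [h]; exact Subgroup.mem_top g
    rw [MonoidHom.mem_ker, hg] at this
    exact gA_ne_one this

theorem card_range : Nat.card rho.range = 495766656000 := by
  rw [← card_co3Ref]
  exact (Nat.card_congr (MonoidHom.ofInjective rho_injective).toEquiv).symm

/-- the lower bound from the chain -/
theorem card_P_ge : 495766656000 ≤ Nat.card P := by
  have hchk := chk_chain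
  rw [runK_eq] at hchk
  let bs : List ↥P := [⟨gB⁻¹, P.inv_mem gB_mem⟩, ⟨gB, gB_mem⟩, ⟨gA⁻¹, P.inv_mem gA_mem⟩, ⟨gA, gA_mem⟩]
  have hregs : RegsOK P bs [cbi, cb, cai, ca] :=
    List.Forall₂.cons enc_gBi (List.Forall₂.cons enc_gB (List.Forall₂.cons enc_gAi
      (List.Forall₂.cons enc_gA List.Forall₂.nil)))
  have hrun := hregs.run n_le (is := chainProg)
  have := chain_sound n_le P chainBase [] _ hchk (by
    intro U hU c hc
    rw [List.mem_map] at hU
    obtain ⟨l, -, rfl⟩ := hU
    rw [List.mem_map] at hc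
    obtain ⟨i, -, rfl⟩ := hc
    exact ⟨((runM chainProg bs).getD i 1).1, ((runM chainProg bs).getD i 1).2, hrun.getD i⟩)
  rw [fixer_nil] at this
  refine le_trans (le_of_eq ?_) this
  rw [List.map_map]
  have e : (List.length ∘ fun l : List ℕ =>
      l.map fun i => (run 276 chainProg [cbi, cb, cai, ca]).getD i (pone 276)) = List.length := by
    funext l
    simp
  rw [e, chk_prod]

theorem P_eq : P = rho.range := by
  have hfin : Finite rho.range := Nat.finite_of_card_ne_zero (by rw [card_range]; norm_num)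
  apply Subgroup.eq_of_le_of_card_ge P_le
  rw [card_range]
  exact card_P_ge

theorem card_P : Nat.card P = 495766656000 := by rw [P_eq, card_range]

/-- the reference stabiliser is isomorphic to the permutation group -/
noncomputable def co3RefEquiv : ↥co3Ref ≃* ↥P :=
  (MonoidHom.ofInjective rho_injective).trans (MulEquiv.subgroupCongr P_eq.symm)

end Cfsg.Agent.Co3P
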