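import Cfsg.Agent.Lib.Lead.Co3.OutData

/-! # The third Conway group on 276 points: kernel checks for the centraliser of an involution -/

set_option autoImplicit false
set_option maxRecDepth 100000

namespace Cfsg.Agent.Co3P

open Cfsg.Agent.J3O Cfsg.Agent.PG

/-- the number of the points moved by the permutation of a code -/
def nmov (n c : ℕ) : ℕ := ((List.range n).filter fun i => !(Nat.beq (lk c i) i)).length

theorem chk_zs : runK 276 slpZ [cbi, cb, cai, ca] (fun R => idxZ.map fun i => R.getD i (pone 276)) =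
    [cz, cc1, cc2, ct2, ct3, ct4, cg2] := by decide +kernel

theorem chk_idxZ : idxZ.length = 7 := by decide +kernel

theorem chk_pinv : pinv 276 cc1 = cc1i ∧ pinv 276 cc2 = cc2i ∧ pinv 276 cg2 = cg2i := by decide +kernel

theorem chk_comm : pmul 276 cc1 cz = pmul 276 cz cc1 ∧ pmul 276 cc2 cz = pmul 276 cz cc2 ∧
    pmul 276 ct2 cz = pmul 276 cz ct2 ∧ pmul 276 ct3 cz = pmul 276 cz ct3 ∧
    pmul 276 ct4 ct2 = pmul 276 ct2 ct4 ∧ pconj 276 cg2 cg2i cz = ct2 := by decide +kernel

theorem chk_invs : pmul 276 cz cz = pone 276 ∧ pmul 276 ct2 ct2 = pone 276 ∧ pmul 276 ct3 ct3 = pone 276 ∧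
    pmul 276 ct4 ct4 = pone 276 ∧ cz ≠ pone 276 ∧ ct2 ≠ pone 276 ∧ ct3 ≠ pone 276 ∧ ct4 ≠ pone 276 ∧
    ct2 ≠ cz ∧ nmov 276 cz = 240 := by decide +kernel

theorem chk_chainH : runK 276 chainHProg [cc2i, cc2, cc1i, cc1] (fun regs =>
    chainOK 276 [] chainHBase (chainHIdx.map fun l => l.map fun i => regs.getD i (pone 276))) = true := by
  decide +kernel

theorem chk_prodH : (chainHIdx.map List.length).prod = 2903040 := by decide +kernel

theorem chk_chainT : runK 276 chainTProg [cbi, cb, cai, ca] (fun regs =>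
    chainOK 276 [] chainTBase (chainTIdx.map fun l => l.map fun i => regs.getD i (pone 276)) &&
    Nat.ble (centBound cz chainTBase (chainTIdx.map fun l => l.map fun i => regs.getD i (pone 276))) 2903040) =
    true := by
  decide +kernel

theorem chk_prodT : (chainTIdx.map List.length).prod = 495766656000 := by decide +kernel

end Cfsg.Agent.Co3P
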