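import Cfsg.Agent.Lib.Lead.Co3.Data

set_option autoImplicit false
set_option maxRecDepth 100000

namespace Cfsg.Agent.Co3P

open Cfsg Cfsg.Agent.Lib.Helper6.Leech Cfsg.Agent.Lib.Helper6.Golay Cfsg.Agent.PG

/-! # The third Conway group on 276 points: kernel checks -/

/-- the word of the first generator -/
def wA : List Prim := co3Gens.getD 0 []
/-- the word of the second generator -/
def wB : List Prim := co3Gens.getD 2 []

/-- the difference of two coordinate lists -/
def subL (u x : List ℤ) : List ℤ := (List.range 24).map fun i => u.getD i 0 - x.getD i 0

/-- the 552 vectors: the representatives, then their partners -/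
def ptsAll : List (List ℤ) := ptsL ++ ptsL.map (subL u0L)

theorem chk_pts : (ptsAll.all fun x => inLeechL x && (normL x == 32) && (dotL u0L x == 24)
    && (x.length == 24)) = true := by decide +kernel

theorem chk_len : ptsL.length = 276 := by decide +kernel

theorem chk_nodup : ptsAll.Nodup := by decide +kernel

theorem chk_codes : codeOK 276 ca cai = true ∧ codeOK 276 cb cbi = true ∧ pinv 276 ca = cai ∧ pinv 276 cb = cbi ∧
    lk ca 0 ≠ 0 := by decide +kernel

theorem chk_actA : ((List.range 276).all fun i =>
    (actW wA (ptsL.getD i []) == ptsL.getD (lk ca i) []) ||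
    (actW wA (ptsL.getD i []) == subL u0L (ptsL.getD (lk ca i) []))) = true := by
  decide +kernel

theorem chk_actB : ((List.range 276).all fun i =>
    (actW wB (ptsL.getD i []) == ptsL.getD (lk cb i) []) ||
    (actW wB (ptsL.getD i []) == subL u0L (ptsL.getD (lk cb i) []))) = true := by
  decide +kernel

theorem chk_chain : runK 276 chainProg [cbi, cb, cai, ca] (fun regs =>
    chainOK 276 [] chainBase (chainIdx.map fun l => l.map fun i => regs.getD i (pone 276))) = true := by
  decide +kernel

theorem chk_prod : (chainIdx.map List.length).prod = 495766656000 := by decide +kernel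

end Cfsg.Agent.Co3P
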