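import Cfsg.Agent.Lib.Lead.Co3.Forest

/-! # The involutions of the centraliser: the checks for part 4 of the search trees (generated) -/

set_option autoImplicit false
set_option maxRecDepth 100000

namespace Cfsg.Agent.Co3P

open Cfsg.Agent.J3O

theorem chk_conj_4_0 : CT.all pcj T4_0 = true := by decide +kernel

theorem chk_c2_4_0 : (CT.filterL cond2 T4_0).length = 14 := by decide +kernel

theorem chk_c3_4_0 : (CT.filterL cond3 T4_0).length = 21 := by decide +kernel

theorem chk_c4_4_0 : (CT.filterL cond4' T4_0).length = 0 := by decide +kernel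

theorem chk_conj_4_1 : CT.all pcj T4_1 = true := by decide +kernel

theorem chk_c2_4_1 : (CT.filterL cond2 T4_1).length = 19 := by decide +kernel

theorem chk_c3_4_1 : (CT.filterL cond3 T4_1).length = 21 := by decide +kernel

theorem chk_c4_4_1 : (CT.filterL cond4' T4_1).length = 0 := by decide +kernel

theorem chk_conj_4_2 : CT.all pcj T4_2 = true := by decide +kernel

theorem chk_c2_4_2 : (CT.filterL cond2 T4_2).length = 4 := by decide +kernel

theorem chk_c3_4_2 : (CT.filterL cond3 T4_2).length = 17 := by decide +kernel

theorem chk_c4_4_2 : (CT.filterL cond4' T4_2).length = 0 := by decide +kernel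

theorem chk_conj_4_3 : CT.all pcj T4_3 = true := by decide +kernel

theorem chk_c2_4_3 : (CT.filterL cond2 T4_3).length = 16 := by decide +kernel

theorem chk_c3_4_3 : (CT.filterL cond3 T4_3).length = 20 := by decide +kernel

theorem chk_c4_4_3 : (CT.filterL cond4' T4_3).length = 0 := by decide +kernel

end Cfsg.Agent.Co3P
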