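import Cfsg.Agent.Lib.Lead.Co3.Forest

/-! # The involutions of the centraliser: the checks for part 8 of the search trees (generated) -/

set_option autoImplicit false
set_option maxRecDepth 100000

namespace Cfsg.Agent.Co3P

open Cfsg.Agent.J3O

theorem chk_conj_8_0 : CT.all pcj T8_0 = true := by decide +kernel

theorem chk_c2_8_0 : (CT.filterL cond2 T8_0).length = 16 := by decide +kernel

theorem chk_c3_8_0 : (CT.filterL cond3 T8_0).length = 14 := by decide +kernel

theorem chk_c4_8_0 : (CT.filterL cond4' T8_0).length = 0 := by decide +kernel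

theorem chk_conj_8_1 : CT.all pcj T8_1 = true := by decide +kernel

theorem chk_c2_8_1 : (CT.filterL cond2 T8_1).length = 16 := by decide +kernel

theorem chk_c3_8_1 : (CT.filterL cond3 T8_1).length = 16 := by decide +kernel

theorem chk_c4_8_1 : (CT.filterL cond4' T8_1).length = 0 := by decide +kernel

theorem chk_conj_8_2 : CT.all pcj T8_2 = true := by decide +kernel

theorem chk_c2_8_2 : (CT.filterL cond2 T8_2).length = 12 := by decide +kernel

theorem chk_c3_8_2 : (CT.filterL cond3 T8_2).length = 22 := by decide +kernel

theorem chk_c4_8_2 : (CT.filterL cond4' T8_2).length = 0 := by decide +kernel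

theorem chk_conj_8_3 : CT.all pcj T8_3 = true := by decide +kernel

theorem chk_c2_8_3 : (CT.filterL cond2 T8_3).length = 12 := by decide +kernel

theorem chk_c3_8_3 : (CT.filterL cond3 T8_3).length = 9 := by decide +kernel

theorem chk_c4_8_3 : (CT.filterL cond4' T8_3).length = 0 := by decide +kernel

end Cfsg.Agent.Co3P
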