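import Cfsg.Agent.Lib.Lead.Co3.OutChk
import Cfsg.Agent.Lib.Lead.Co3.ChkT0
import Cfsg.Agent.Lib.Lead.Co3.ChkT1
import Cfsg.Agent.Lib.Lead.Co3.ChkT2
import Cfsg.Agent.Lib.Lead.Co3.ChkT3
import Cfsg.Agent.Lib.Lead.Co3.ChkT4
import Cfsg.Agent.Lib.Lead.Co3.ChkT5
import Cfsg.Agent.Lib.Lead.Co3.ChkT6
import Cfsg.Agent.Lib.Lead.Co3.ChkT7
import Cfsg.Agent.Lib.Lead.Co3.ChkT8
import Cfsg.Agent.Lib.Lead.Co3.ChkT9
import Cfsg.Agent.Lib.Lead.Co3.ChkT10
import Cfsg.Agent.Lib.Lead.Co3.ChkT11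
import Cfsg.Agent.Lib.Lead.Co3.Cent
import Cfsg.Agent.Lib.Lead.PG.Upper4
import Cfsg.Agent.Lib.Lead.PG.SylT

/-!
# The outer automorphism group of the third Conway group is trivial

An automorphism maps the central involution `z1` of a Sylow 2-subgroup to a conjugate (170775 possibilities, the index
of the centraliser `H`); if it fixes `z1`, the image of `t2` is one of the 630 involutions of `H` with 36 fixed points
other than `z1`; if it also fixes `t2`, the image of `t3` is one of 768 involutions of `H`; if it also fixes `t3`, the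
image of `t4` is one of 6 involutions of the centraliser of `t2`; and `z1, t2, t3, t4` generate the group. The
involutions of `H` are listed in search trees closed under conjugation by the generators of `H`, and they contain the
involutions of a Sylow 2-subgroup of `H`.
-/

set_option autoImplicit false

namespace Cfsg.Agent.Co3P

open Cfsg Cfsg.Agent.J3O Cfsg.Agent.PG

/-! ### the assembled checks on the trees -/

theorem chk_all : allFL co3Forest pcj = true := by
  rw [allFL, co3Forest]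
  simp only [List.all_cons, List.all_nil, Bool.and_true, chk_conj_0_0, chk_conj_0_1, chk_conj_0_2, chk_conj_0_3, chk_conj_1_0, chk_conj_1_1, chk_conj_1_2, chk_conj_1_3, chk_conj_2_0, chk_conj_2_1, chk_conj_2_2, chk_conj_2_3, chk_conj_3_0, chk_conj_3_1, chk_conj_3_2, chk_conj_3_3, chk_conj_4_0, chk_conj_4_1, chk_conj_4_2, chk_conj_4_3, chk_conj_5_0, chk_conj_5_1, chk_conj_5_2, chk_conj_5_3, chk_conj_6_0, chk_conj_6_1, chk_conj_6_2, chk_conj_6_3, chk_conj_7_0, chk_conj_7_1, chk_conj_7_2, chk_conj_7_3, chk_conj_8_0, chk_conj_8_1, chk_conj_8_2, chk_conj_8_3, chk_conj_9_0, chk_conj_9_1, chk_conj_9_2, chk_conj_9_3, chk_conj_10_0, chk_conj_10_1, chk_conj_10_2, chk_conj_10_3, chk_conj_11_0, chk_conj_11_1, chk_conj_11_2, chk_conj_11_3]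

theorem chk_all' : allFL co3Forest (pconjT 276 cc1 cc1i cc2 cc2i co3Forest) = true := chk_all

theorem chk_n2 : (filterFL co3Forest cond2).length ≤ 630 := by
  rw [length_filterFL, co3Forest]
  simp only [List.map_cons, List.map_nil, List.sum_cons, List.sum_nil, chk_c2_0_0, chk_c2_0_1, chk_c2_0_2, chk_c2_0_3, chk_c2_1_0, chk_c2_1_1, chk_c2_1_2, chk_c2_1_3, chk_c2_2_0, chk_c2_2_1, chk_c2_2_2, chk_c2_2_3, chk_c2_3_0, chk_c2_3_1, chk_c2_3_2, chk_c2_3_3, chk_c2_4_0, chk_c2_4_1, chk_c2_4_2, chk_c2_4_3, chk_c2_5_0, chk_c2_5_1, chk_c2_5_2, chk_c2_5_3, chk_c2_6_0, chk_c2_6_1, chk_c2_6_2, chk_c2_6_3, chk_c2_7_0, chk_c2_7_1, chk_c2_7_2, chk_c2_7_3, chk_c2_8_0, chk_c2_8_1, chk_c2_8_2, chk_c2_8_3, chk_c2_9_0, chk_c2_9_1, chk_c2_9_2, chk_c2_9_3, chk_c2_10_0, chk_c2_10_1, chk_c2_10_2, chk_c2_10_3, chk_c2_11_0, chk_c2_11_1, chk_c2_11_2, chk_c2_11_3]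
  norm_num

theorem chk_n3 : (filterFL co3Forest cond3).length ≤ 768 := by
  rw [length_filterFL, co3Forest]
  simp only [List.map_cons, List.map_nil, List.sum_cons, List.sum_nil, chk_c3_0_0, chk_c3_0_1, chk_c3_0_2, chk_c3_0_3, chk_c3_1_0, chk_c3_1_1, chk_c3_1_2, chk_c3_1_3, chk_c3_2_0, chk_c3_2_1, chk_c3_2_2, chk_c3_2_3, chk_c3_3_0, chk_c3_3_1, chk_c3_3_2, chk_c3_3_3, chk_c3_4_0, chk_c3_4_1, chk_c3_4_2, chk_c3_4_3, chk_c3_5_0, chk_c3_5_1, chk_c3_5_2, chk_c3_5_3, chk_c3_6_0, chk_c3_6_1, chk_c3_6_2, chk_c3_6_3, chk_c3_7_0, chk_c3_7_1, chk_c3_7_2, chk_c3_7_3, chk_c3_8_0, chk_c3_8_1, chk_c3_8_2, chk_c3_8_3, chk_c3_9_0, chk_c3_9_1, chk_c3_9_2, chk_c3_9_3, chk_c3_10_0, chk_c3_10_1, chk_c3_10_2, chk_c3_10_3, chk_c3_11_0, chk_c3_11_1, chk_c3_11_2, chk_c3_11_3]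
  norm_num

theorem chk_n4 : (filterFL co3Forest cond4').length ≤ 6 := by
  rw [length_filterFL, co3Forest]
  simp only [List.map_cons, List.map_nil, List.sum_cons, List.sum_nil, chk_c4_0_0, chk_c4_0_1, chk_c4_0_2, chk_c4_0_3, chk_c4_1_0, chk_c4_1_1, chk_c4_1_2, chk_c4_1_3, chk_c4_2_0, chk_c4_2_1, chk_c4_2_2, chk_c4_2_3, chk_c4_3_0, chk_c4_3_1, chk_c4_3_2, chk_c4_3_3, chk_c4_4_0, chk_c4_4_1, chk_c4_4_2, chk_c4_4_3, chk_c4_5_0, chk_c4_5_1, chk_c4_5_2, chk_c4_5_3, chk_c4_6_0, chk_c4_6_1, chk_c4_6_2, chk_c4_6_3, chk_c4_7_0, chk_c4_7_1, chk_c4_7_2, chk_c4_7_3, chk_c4_8_0, chk_c4_8_1, chk_c4_8_2, chk_c4_8_3, chk_c4_9_0, chk_c4_9_1, chk_c4_9_2, chk_c4_9_3, chk_c4_10_0, chk_c4_10_1, chk_c4_10_2, chk_c4_10_3, chk_c4_11_0, chk_c4_11_1, chk_c4_11_2, chk_c4_11_3]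
  norm_num

/-! ### the number of moved points -/

theorem length_filter_range (n : ℕ) (q : ℕ → Bool) :
    ((List.range n).filter q).length = ((Finset.range n).filter fun i => q i = true).card := by
  rw [Finset.card_filter]
  induction n with
  | zero => simp
  | succ k ih =>
    rw [List.range_succ, List.filter_append, List.length_append, ih, Finset.sum_range_succ]
    cases h : q k <;> simp [h]

theorem nmov_enc {n : ℕ} (hn : n ≤ 512) (x : Equiv.Perm (Fin n)) : nmov n (enc n x) = x.support.card := by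
  rw [nmov, length_filter_range, Finset.card_filter,
    ← Fin.sum_univ_eq_sum_range (fun i => if (!(Nat.beq (lk (enc n x) i) i)) = true then 1 else 0),
    ← Finset.card_filter]
  congr 1
  ext i
  rw [Finset.mem_filter, Equiv.Perm.mem_support, lk_enc_fin hn]
  simp only [Finset.mem_univ, true_and, Bool.not_eq_true', Ne]
  constructor
  · intro h he
    rw [he, Nat.beq_refl] at h
    exact absurd h (by simp)
  · intro h
    cases hb : Nat.beq ((x i : Fin n) : ℕ) (i : ℕ)
    · rfl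
    · exact absurd (Fin.ext (Nat.eq_of_beq_eq_true hb)) h

theorem nmov_conj {n : ℕ} (hn : n ≤ 512) (x g : Equiv.Perm (Fin n)) :
    nmov n (enc n (g * x * g⁻¹)) = nmov n (enc n x) := by
  rw [nmov_enc hn, nmov_enc hn, Equiv.Perm.card_support_conj]

/-! ### the Sylow 2-subgroup -/

instance : Finite ↥H := inferInstance

/-- the generators of the Sylow 2-subgroup and their inverses, in `H` -/
noncomputable def gS : List ↥H := (idxS2.map fun i => regH slpS2 i).reverse

theorem gS_ok : RegsOK H gS cS := by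
  have h := chk_S
  rw [runK_eq] at h
  have h' : cS = (idxS2.map fun i => (run 276 slpS2 [cc2i, cc2, cc1i, cc1]).getD i (pone 276)).reverse := by
    rw [h, List.reverse_reverse]
  rw [gS, h', RegsOK, List.forall₂_reverse_iff, List.forall₂_map_left_iff, List.forall₂_map_right_iff]
  exact List.forall₂_same.2 fun i _ => enc_regH slpS2 i

/-- the Sylow 2-subgroup, in `H` -/
noncomputable def S2H : Subgroup ↥H := Subgroup.closure {g | g ∈ gS}

theorem syl_facts : Nat.card S2H = 2 ^ 10 ∧ ∀ e ∈ S2H, qS (enc 276 e.1) = true := by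
  obtain ⟨h1, h2⟩ := sylTOK_sound n_le gS_ok sylT qS chk_syl
  refine ⟨le_antisymm ?_ ?_, h2⟩
  · rw [chk_sylsize] at h1
    exact h1.trans (by norm_num)
  · have hchk := chk_chainS
    rw [runK_eq] at hchk
    have hrun := gS_ok.run n_le (is := chainSProg)
    have hmemS : ∀ i, (runM chainSProg gS).getD i 1 ∈ S2H := by
      intro i
      have hall := runM_mem S2H.toSubmonoid chainSProg gS (fun g hg => Subgroup.subset_closure hg)
      by_cases hi : i < (runM chainSProg gS).length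
      · rw [List.getD_eq_getElem _ _ hi]; exact hall _ (List.getElem_mem _)
      · rw [List.getD_eq_default _ _ (not_lt.1 hi)]; exact S2H.one_mem
    have := chain_sound n_le (S2H.map H.subtype) chainSBase [] _ hchk (by
      intro U hU c hc
      rw [List.mem_map] at hU
      obtain ⟨l, -, rfl⟩ := hU
      rw [List.mem_map] at hc
      obtain ⟨i, -, rfl⟩ := hc
      exact ⟨((runM chainSProg gS).getD i 1).1, ⟨_, hmemS i, rfl⟩, hrun.getD i⟩)
    rw [fixer_nil, Subgroup.card_map_of_injective H.subtype_injective] at this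
    refine le_trans (le_of_eq ?_) this
    rw [List.map_map]
    have e : (List.length ∘ fun l : List ℕ =>
        l.map fun i => (run 276 chainSProg cS).getD i (pone 276)) = List.length := by
      funext l
      simp
    rw [e, chk_prodS]
    norm_num

theorem card_H' : Nat.card ↥H = 2 ^ 10 * 2835 := by rw [card_H]; norm_num

/-- `z1`, in `H` -/
noncomputable def z1H : ↥H := ⟨z1.1, mem_H_of_comm z1 rfl⟩

theorem enc_z1H : enc 276 z1H.1 = cz := enc_zs.1

theorem z1H_mem : z1H ∈ S2H := by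
  apply Subgroup.subset_closure
  show z1H ∈ gS
  have hlen : gS.length = cS.length := List.Forall₂.length_eq gS_ok
  have h11 : 11 < gS.length := by rw [hlen, chk_sylz.1]; norm_num
  have hc := gS_ok.getD 11
  rw [List.getD_eq_getElem _ _ h11, chk_sylz.2.1] at hc
  have : gS[11] = z1H := Subtype.ext (enc_injective n_le (hc.trans enc_z1H.symm))
  rw [← this]
  exact List.getElem_mem _

theorem inv_in_forest_H (y : ↥H) (hy : y ^ 2 = 1) (hne : y ≠ 1) : InFL co3Forest (enc 276 y.1) := by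
  refine all_inv n_le enc_c1H enc_c1Hi enc_c2H enc_c2Hi closure_cH chk_all' S2H syl_facts.1 card_H'
    (by norm_num) ?_ y hy hne
  intro e he h1 h2
  have := syl_facts.2 e he
  rw [qS, Bool.and_eq_true] at this
  exact qInv_sound n_le this.1 h1 h2

/-- **every involution of the group commuting with `z1` has its code in the trees** -/
theorem inv_in_forest (y : ↥P) (hy : y ^ 2 = 1) (hne : y ≠ 1) (hc : y * z1 = z1 * y) :
    InFL co3Forest (enc 276 y.1) := by
  have hm := mem_H_of_comm y hc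
  have h2 : y.1 * y.1 = 1 := by
    have := congrArg Subtype.val hy
    rwa [pow_two] at this
  have h3 : (⟨y.1, hm⟩ : ↥H) ^ 2 = 1 := by
    rw [pow_two]
    exact Subtype.ext h2
  have h4 : (⟨y.1, hm⟩ : ↥H) ≠ 1 := by
    intro h
    apply hne
    apply Subtype.ext
    have := congrArg (fun x : ↥H => x.1) h
    exact this
  exact inv_in_forest_H ⟨y.1, hm⟩ h3 h4

/-- the Sylow 2-subgroup, in the group -/
noncomputable def S2 : Subgroup ↥P := S2H.map (Subgroup.inclusion H_le)

theorem card_S2 : Nat.card S2 = 2 ^ 10 := by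
  rw [S2, Subgroup.card_map_of_injective (Subgroup.inclusion_injective H_le)]
  exact syl_facts.1

theorem card_P' : Nat.card ↥P = 2 ^ 10 * 484147125 := by rw [card_P]; norm_num

theorem z1_mem_S2 : z1 ∈ S2 := ⟨z1H, z1H_mem, rfl⟩

theorem S2_comm (e : ↥P) (he : e ∈ S2) : e * z1 = z1 * e := by
  obtain ⟨e', -, rfl⟩ := he
  apply Subtype.ext
  have h := H_le_cent e'.2
  rw [Subgroup.mem_centralizer_iff] at h
  exact (h z1.1 rfl).symm

theorem S2_cen (e : ↥P) (he : e ∈ S2) (hc : ∀ g ∈ S2, g * e = e * g) : e = 1 ∨ e = z1 := by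
  obtain ⟨e', he', rfl⟩ := he
  have hq := syl_facts.2 e' he'
  rw [qS, Bool.and_eq_true] at hq
  have hc' : ∀ g ∈ gS, g * e' = e' * g := by
    intro g hg
    have hg' : g ∈ S2H := Subgroup.subset_closure hg
    have := hc (Subgroup.inclusion H_le g) ⟨g, hg', rfl⟩
    apply Subgroup.inclusion_injective H_le
    rw [map_mul, map_mul]
    exact this
  rcases qCen_sound n_le gS_ok enc_z1H hq.2 hc' with h | h
  · left; rw [h, map_one]
  · right; rw [h]; rfl

/-- the image of `z1` under an automorphism is a conjugate -/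
theorem aut_z1 (φ : MulAut ↥P) : ∃ g : ↥P, φ z1 = g * z1 * g⁻¹ :=
  aut_image_conj S2 card_S2 card_P' (by norm_num) z1 z1_mem_S2 z1_ne S2_comm S2_cen φ

/-! ### the conjugates of `z1` -/

/-- the group `H`, as a subgroup of the group -/
noncomputable def Cz : Subgroup ↥P := H.subgroupOf P

theorem card_Cz : Nat.card Cz = 2903040 := by
  rw [Cz, Nat.card_congr (Subgroup.subgroupOfEquivOfLe H_le).toEquiv, card_H]

theorem Cz_comm (k : ↥P) (hk : k ∈ Cz) : k * z1 = z1 * k := by
  apply Subtype.ext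
  have hk' : k.1 ∈ H := hk
  have h := H_le_cent hk'
  rw [Subgroup.mem_centralizer_iff] at h
  exact (h z1.1 rfl).symm

theorem index_Cz : Cz.index = 170775 := by
  have h := Subgroup.card_mul_index Cz
  rw [card_Cz, card_P] at h
  omega

/-- the conjugates of `z1`, as a set -/
noncomputable def clsSet : Set ↥P := Set.range fun q : ↥P ⧸ Cz => q.out * z1 * q.out⁻¹

theorem clsSet_finite : clsSet.Finite := Set.finite_range _

/-- the conjugates of `z1` -/
noncomputable def cls : Finset ↥P := clsSet_finite.toFinset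

theorem card_cls : cls.card ≤ 170775 := by
  rw [cls, ← Set.ncard_eq_toFinset_card clsSet clsSet_finite]
  have h1 : clsSet.ncard ≤ (Set.univ : Set (↥P ⧸ Cz)).ncard := by
    rw [clsSet, ← Set.image_univ]
    exact Set.ncard_image_le Set.finite_univ
  rw [Set.ncard_univ, ← Subgroup.index_eq_card, index_Cz] at h1
  exact h1

theorem conj_mem_cls (g : ↥P) : g * z1 * g⁻¹ ∈ cls := by
  rw [cls, Set.Finite.mem_toFinset]
  refine ⟨(g : ↥P ⧸ Cz), ?_⟩
  have hk : ((g : ↥P ⧸ Cz).out)⁻¹ * g ∈ Cz := by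
    rw [← QuotientGroup.eq]
    exact QuotientGroup.out_eq' _
  obtain ⟨o, ho⟩ : ∃ o : ↥P, o = (g : ↥P ⧸ Cz).out := ⟨_, rfl⟩
  show (g : ↥P ⧸ Cz).out * z1 * ((g : ↥P ⧸ Cz).out)⁻¹ = g * z1 * g⁻¹
  rw [← ho] at hk ⊢
  have hcomm := Cz_comm _ hk
  calc o * z1 * o⁻¹ = o * (z1 * (o⁻¹ * g)) * (o⁻¹ * g)⁻¹ * o⁻¹ := by group
    _ = o * ((o⁻¹ * g) * z1) * (o⁻¹ * g)⁻¹ * o⁻¹ := by rw [hcomm]
    _ = g * z1 * g⁻¹ := by group

/-! ### the steps -/

theorem step1 (φ : MulAut ↥P) : φ z1 ∈ cls := by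
  obtain ⟨g, hg⟩ := aut_z1 φ
  rw [hg]
  exact conj_mem_cls g

open Classical in
/-- the candidates of a step -/
noncomputable def cands (cond : ℕ → Bool) : Finset ↥P := ((filterFL co3Forest cond).map (eltOf P)).toFinset

theorem card_cands (cond : ℕ → Bool) : (cands cond).card ≤ (filterFL co3Forest cond).length := by
  classical
  exact (List.toFinset_card_le _).trans (by rw [List.length_map])

theorem mem_cands {cond : ℕ → Bool} {x : ↥P} (hx : InFL co3Forest (enc 276 x.1))
    (hc : cond (enc 276 x.1) = true) : x ∈ cands cond := by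
  classical
  rw [cands, List.mem_toFinset, List.mem_map]
  exact ⟨enc 276 x.1, mem_filterFL hx hc, eltOf_enc n_le x⟩

theorem aut_sq (φ : MulAut ↥P) {x : ↥P} (hx : x ^ 2 = 1) : (φ x) ^ 2 = 1 := by
  rw [← map_pow, hx, map_one]

theorem aut_ne (φ : MulAut ↥P) {x : ↥P} (hx : x ≠ 1) : φ x ≠ 1 :=
  fun h => hx ((map_eq_one_iff φ φ.injective).1 h)

theorem step2 (φ : MulAut ↥P) (f1 : φ z1 = z1) : φ t2 ∈ cands cond2 := by
  have hcomm : φ t2 * z1 = z1 * φ t2 := by
    rw [← f1, ← map_mul, ← map_mul, t2_comm]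
  refine mem_cands (inv_in_forest _ (aut_sq φ t2_sq) (aut_ne φ t2_ne) hcomm) ?_
  rw [cond2, Bool.and_eq_true]
  constructor
  · have e : φ t2 = φ g2 * z1 * (φ g2)⁻¹ := by
      rw [t2_eq, map_mul, map_mul, map_inv, f1]
    have e' : (φ t2).1 = (φ g2).1 * z1.1 * (φ g2).1⁻¹ := congrArg Subtype.val e
    rw [e', nmov_conj n_le, enc_zs.1, chk_invs.2.2.2.2.2.2.2.2.2]
    rfl
  · rw [Bool.not_eq_true']
    cases hb : Nat.beq (enc 276 (φ t2).1) cz
    · rfl
    · exfalso
      have h1 := Nat.eq_of_beq_eq_true hb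
      rw [← enc_zs.1] at h1
      have h2 : φ t2 = z1 := Subtype.ext (enc_injective n_le h1)
      rw [← f1] at h2
      have h3 := φ.injective h2
      apply chk_invs.2.2.2.2.2.2.2.2.1
      rw [← enc_zs.2.2.2.1, h3, enc_zs.1]

theorem step3 (φ : MulAut ↥P) (f1 : φ z1 = z1) (f2 : φ t2 = t2) : φ t3 ∈ cands cond3 := by
  have hcomm : φ t3 * z1 = z1 * φ t3 := by
    rw [← f1, ← map_mul, ← map_mul, t3_comm]
  refine mem_cands (inv_in_forest _ (aut_sq φ t3_sq) (aut_ne φ t3_ne) hcomm) ?_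
  have hfix : RegsOK P [t2, z1] [ct2, cz] :=
    List.Forall₂.cons enc_zs.2.2.2.1 (List.Forall₂.cons enc_zs.1 List.Forall₂.nil)
  have tr := condOf_transfer n_le φ (gs := [t3, t2, z1]) (gs' := [φ t3, t2, z1])
    (cs := [enc 276 t3.1, ct2, cz]) (cs' := [enc 276 (φ t3).1, ct2, cz])
    (List.Forall₂.cons rfl hfix) (List.Forall₂.cons rfl hfix)
    (by rw [List.map_cons, List.map_cons, List.map_cons, List.map_nil, f1, f2]) slp3 ts3
  rw [cond3, ← tr, enc_zs.2.2.2.2.1]
  exact chk_cond3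

open Classical in
/-- the candidates of the fourth step -/
noncomputable def cands4 : Finset ↥P :=
  ((filterFL co3Forest cond4').map fun c => eltOf P (pconj 276 cg2 cg2i c)).toFinset

theorem card_cands4 : cands4.card ≤ (filterFL co3Forest cond4').length := by
  classical
  exact (List.toFinset_card_le _).trans (by rw [List.length_map])

theorem step4 (φ : MulAut ↥P) (f1 : φ z1 = z1) (f2 : φ t2 = t2) (f3 : φ t3 = t3) : φ t4 ∈ cands4 := by
  classical
  -- the conjugate by the inverse of `g2` commutes with `z1`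
  have hcomm2 : φ t4 * t2 = t2 * φ t4 := by
    rw [← f2, ← map_mul, ← map_mul, t4_comm]
  obtain ⟨y', hy'⟩ : ∃ y' : ↥P, y' = g2⁻¹ * φ t4 * g2 := ⟨_, rfl⟩
  have hyy : φ t4 = g2 * y' * g2⁻¹ := by rw [hy']; group
  have hcomm : y' * z1 = z1 * y' := by
    have e1 : z1 = g2⁻¹ * t2 * g2 := by rw [t2_eq]; group
    rw [hy', e1]
    calc g2⁻¹ * φ t4 * g2 * (g2⁻¹ * t2 * g2) = g2⁻¹ * (φ t4 * t2) * g2 := by group
      _ = g2⁻¹ * (t2 * φ t4) * g2 := by rw [hcomm2]
      _ = g2⁻¹ * t2 * g2 * (g2⁻¹ * φ t4 * g2) := by group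
  have hsq : y' ^ 2 = 1 := by
    have h2 : φ t4 * φ t4 = 1 := by rw [← pow_two]; exact aut_sq φ t4_sq
    rw [hy', pow_two]
    calc g2⁻¹ * φ t4 * g2 * (g2⁻¹ * φ t4 * g2) = g2⁻¹ * (φ t4 * φ t4) * g2 := by group
      _ = 1 := by rw [h2]; group
  have hne : y' ≠ 1 := by
    intro h
    have : φ t4 = 1 := by rw [hyy, h]; group
    exact aut_ne φ t4_ne this
  have hin := inv_in_forest y' hsq hne hcomm
  have hcode : pconj 276 cg2 cg2i (enc 276 y'.1) = enc 276 (φ t4).1 := by
    rw [← enc_zs.2.2.2.2.2.2, ← enc_g2i, Subgroup.coe_inv, pconj_enc n_le, hyy]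
    rfl
  have hfix : RegsOK P [t3, t2, z1] [ct3, ct2, cz] :=
    List.Forall₂.cons enc_zs.2.2.2.2.1 (List.Forall₂.cons enc_zs.2.2.2.1
      (List.Forall₂.cons enc_zs.1 List.Forall₂.nil))
  have tr := condOf_transfer n_le φ (gs := [t4, t3, t2, z1]) (gs' := [φ t4, t3, t2, z1])
    (cs := [enc 276 t4.1, ct3, ct2, cz]) (cs' := [enc 276 (φ t4).1, ct3, ct2, cz])
    (List.Forall₂.cons rfl hfix) (List.Forall₂.cons rfl hfix)
    (by rw [List.map_cons, List.map_cons, List.map_cons, List.map_cons, List.map_nil, f1, f2, f3])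
  have hcond : cond4' (enc 276 y'.1) = true := by
    rw [cond4', hcode, cond4, ← tr slp4A ts4A, ← tr slp4B ts4B, ← tr slp4C ts4C, enc_zs.2.2.2.2.2.1]
    exact chk_cond4
  rw [cands4, List.mem_toFinset, List.mem_map]
  refine ⟨enc 276 y'.1, mem_filterFL hin hcond, ?_⟩
  rw [hcode]
  exact eltOf_enc n_le (φ t4)

theorem aut_trivial (φ : MulAut ↥P) (f1 : φ z1 = z1) (f2 : φ t2 = t2) (f3 : φ t3 = t3) (f4 : φ t4 = t4) :
    φ = 1 := by
  have h := chk_G
  rw [runK_eq] at h
  have e : idxG = [idxG.getD 0 0, idxG.getD 1 0] := by decide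
  rw [e, List.map_cons, List.map_cons, List.map_nil] at h
  simp only [List.cons.injEq, and_true] at h
  have hregs : RegsOK P [t4, t3, t2, z1] [ct4, ct3, ct2, cz] :=
    List.Forall₂.cons enc_zs.2.2.2.2.2.1 (List.Forall₂.cons enc_zs.2.2.2.2.1 (List.Forall₂.cons enc_zs.2.2.2.1
      (List.Forall₂.cons enc_zs.1 List.Forall₂.nil)))
  refine aut_eq_one_of_regs n_le closure_ab hregs slpG (idxG.getD 0 0) (idxG.getD 1 0) ?_ ?_ φ ?_
  · rw [enc_a]; exact h.1
  · rw [enc_b]; exact h.2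
  · rw [List.map_cons, List.map_cons, List.map_cons, List.map_cons, List.map_nil, f1, f2, f3, f4]

theorem card_aut_le : Nat.card (MulAut ↥P) ≤ 495766656000 := by
  have h := card_aut_le_of_four z1 t2 t3 t4 cls (cands cond2) (cands cond3) cands4 step1 step2 step3 step4
    aut_trivial
  have k1 := card_cls
  have k2 := (card_cands cond2).trans chk_n2
  have k3 := (card_cands cond3).trans chk_n3
  have k4 := card_cands4.trans chk_n4
  calc Nat.card (MulAut ↥P) ≤ cls.card * (cands cond2).card * (cands cond3).card * cands4.card := h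
    _ ≤ 170775 * 630 * 768 * 6 := Nat.mul_le_mul (Nat.mul_le_mul (Nat.mul_le_mul k1 k2) k3) k4
    _ = 495766656000 := by norm_num

/-! ### the centre -/

theorem center_P : Subgroup.center ↥P = ⊥ := by
  have hs : IsSimpleGroup ↥P := isSimple_P
  rcases (inferInstance : (Subgroup.center ↥P).Normal).eq_bot_or_eq_top with h | h
  · exact h
  · exfalso
    have hc : aP * bP = bP * aP := by
      have : aP ∈ Subgroup.center ↥P := by rw [h]; exact Subgroup.mem_top _
      exact (Subgroup.mem_center_iff.1 this bP).symm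
    apply chk_noncomm
    have := congrArg (fun x : ↥P => enc 276 x.1) hc
    simp only [Subgroup.coe_mul] at this
    rw [← pmul_enc n_le, ← pmul_enc n_le, enc_a, enc_b] at this
    exact this

/-- the outer automorphism group of the permutation group is trivial -/
theorem card_out_P : Nat.card (Cfsg.Out ↥P) = 1 :=
  card_out_eq_one_of_le center_P card_P card_aut_le

/-- **The outer automorphism group of the third Conway group is trivial.** -/
theorem card_out_Co3 : Nat.card (Cfsg.Out ↥Cfsg.Spor.Co3) = 1 := by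
  rw [Cfsg.Agent.Lib.Helper6.OutGeneric.card_out_congr co3Equiv]
  exact card_out_P

end Cfsg.Agent.Co3P
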