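import Cfsg.Agent.Lib.Lead.Co3.Forest
import Cfsg.Agent.Lib.Lead.Co3.SylData
import Cfsg.Agent.Lib.Lead.PG.SylT

/-! # The third Conway group on 276 points: kernel checks for the automorphism group (generated) -/

set_option autoImplicit false
set_option maxRecDepth 100000

namespace Cfsg.Agent.Co3P

open Cfsg.Agent.J3O Cfsg.Agent.PG

theorem chk_G : runK 276 slpG [ct4, ct3, ct2, cz] (fun R => idxG.map fun i => R.getD i (pone 276)) = [ca, cb] := by
  decide +kernel

theorem chk_cond3 : cond3 ct3 = true := by decide +kernel

theorem chk_cond4 : cond4 ct4 = true := by decide +kernel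

theorem chk_S : runK 276 slpS2 [cc2i, cc2, cc1i, cc1] (fun R => idxS2.map fun i => R.getD i (pone 276)) =
    cS.reverse := by decide +kernel

/-- the test on the codes of the Sylow 2-subgroup -/
def qS (d : ℕ) : Bool := qInv 276 co3Forest d && qCen 276 cS cz d

theorem chk_syl : sylTOK 276 cS sylT qS = true := by decide +kernel

theorem chk_sylsize : (CT.filterL (fun _ => true) sylT).length = 1024 := by decide +kernel

theorem chk_chainS : runK 276 chainSProg cS (fun regs =>
    chainOK 276 [] chainSBase (chainSIdx.map fun l => l.map fun i => regs.getD i (pone 276))) = true := by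
  decide +kernel

theorem chk_prodS : (chainSIdx.map List.length).prod = 1024 := by decide +kernel

theorem chk_sylz : cS.length = 12 ∧ cS.getD 11 (pone 276) = cz ∧ idxS2.length = 12 := by
  decide +kernel

theorem chk_noncomm : pmul 276 ca cb ≠ pmul 276 cb ca := by decide +kernel

end Cfsg.Agent.Co3P
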