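import Cfsg.Agent.Lib.Lead.Co3.Cent
import Cfsg.Agent.Lib.Lead.PG.Pow

/-!
# The centraliser of a 2-central involution of the third Conway group is perfect

`H = C_P(z1)` is generated by `c1`, `c2`, and the orders of `c1`, `c2`, `c1 c2`, `c1 c2²`, `c1 c2³` (14, 18, 12, 7, 15)
leave no non-trivial abelian quotient. The same for the centraliser of `z1` inside `↥P`, and for the centraliser of
`bP ^ 7`, a conjugate of `z1`.
-/

set_option autoImplicit false
set_option maxRecDepth 100000

namespace Cfsg.Agent.Co3P

open Cfsg Cfsg.Agent.J3O Cfsg.Agent.PG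

/-- the code of an element `g0` with `g0 z1 g0⁻¹ = bP ^ 7`, and of its inverse -/
def cg0 : ℕ := 292929650610570783409587256686098413772754786444365003581510685769696004941013836830806502862909590753860980065366065466207059796096637224728669528284182588806752712441171603802321545528162557257243069588834785737772322784671060057414636733948389129550157715907565011858124702571440078793285489038500099148357289360135943978858604823028766068655913614430514918707081620690517328717342602402648546573446720980725150961746896679968392109447710555296266152480929317208141404327210256249553707407992621674296821231051269709725671246321810059062979926659460882800316841436304157990487022469160882264416635390362212123403679880577815520642394819875218549406183662908117768721705067745496279624498745172904288522791789524200104240684866212123313939431526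
def cg0i : ℕ := 1255536903364396394078830599635058043460091777961956036759451842918005008231550447735318696463137879939963539437906411519775689778435330110080107379931564744522277862274606794694594538642119261686992668389198205974537775556108955023745225294336735009668316664388602199794702766298395286811108164258526175792692885894885326385093274608989653432290072830984242483299047851476048064013826860601801242503263084564530515739687501687381142037468993659478691196398411363432968313789990053154001939209435095240120462791796084081205863002273466235172668082663361810874049090007870580511187804015152416810949992546378603406459600400486187733813224070541773153526526723261357418374974076431114906393750260333400685182546423271510931663266070460813836565904000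
/-- the program of `g0` from the generators -/
def slpC : List (ℕ × ℕ) := [(3, 3), (3, 3), (3, 5), (5, 3), (7, 3), (3, 7), (9, 3), (3, 9), (11, 3), (3, 11), (11, 5), (14, 4), (4, 14), (14, 6), (6, 14), (18, 6), (6, 18), (20, 6), (19, 6), (6, 19), (23, 6), (6, 23), (25, 6), (6, 25), (25, 6), (26, 6), (6, 26), (28, 6), (6, 28), (32, 6), (6, 32), (32, 6), (33, 6), (6, 33), (37, 6), (6, 37), (37, 6), (6, 37), (39, 6), (40, 6), (6, 40), (44, 6), (6, 44), (44, 8), (8, 44), (48, 6), (49, 4), (4, 49), (49, 4), (4, 49), (53, 1), (1, 53), (55, 1), (1, 55), (16, 1), (1, 18), (59, 9), (9, 59), (17, 1), (1, 19), (5, 5), (5, 5), (3, 7), (7, 3), (5, 5), (5, 5), (11, 5), (5, 11), (13, 5), (5, 13), (11, 7), (16, 6), (6, 16), (14, 8), (8, 14), (16, 8), (8, 16), (18, 8), (8, 18), (20, 8), (21, 8), (8, 21), (27, 8), (8, 27), (25, 8), (8, 25), (27, 8), (8, 27), (29, 8), (34, 8), (8, 34), (32, 8), (8, 32), (38, 8), (8, 38), (40, 8), (8, 40), (42, 8), (39, 8), (8, 39), (41, 8), (8, 41), (43, 8), (8, 43), (49, 8), (8, 49), (47, 7), (7, 47), (49, 7), (7, 49), (51, 7), (7, 51),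 (53, 7), (7, 53), (55, 7), (7, 55), (57, 7), (7, 57), (63, 3), (3, 63), (6, 1), (1, 8), (67, 11), (11, 67), (6, 1), (1, 8), (4, 4), (6, 2), (2, 6), (4, 4), (3, 4), (10, 3), (3, 10), (8, 5), (9, 4), (4, 13), (3, 14), (12, 5), (13, 4), (14, 4), (3, 18), (20, 3), (21, 3), (2, 17), (19, 2), (9, 0), (25, 3), (3, 0), (0, 2), (1, 0), (104, 52), (0, 11), (0, 2)]

theorem chk_pows : ppow 276 cc1 14 = pone 276 ∧ ppow 276 cc2 18 = pone 276 ∧
    ppow 276 (pmul 276 cc1 cc2) 12 = pone 276 ∧ ppow 276 (pmul 276 (pmul 276 cc1 cc2) cc2) 7 = pone 276 ∧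
    ppow 276 (pmul 276 (pmul 276 (pmul 276 cc1 cc2) cc2) cc2) 15 = pone 276 := by decide +kernel

theorem chk_g0 : runK 276 slpC [cbi, cb, cai, ca] (fun R => R.getD 0 (pone 276)) = cg0 ∧ pinv 276 cg0 = cg0i ∧
    pconj 276 cg0 cg0i cz = ppow 276 cb 7 := by decide +kernel

theorem enc_mulH (x y : ↥H) : enc 276 (x * y).1 = pmul 276 (enc 276 x.1) (enc 276 y.1) := by
  rw [Subgroup.coe_mul, pmul_enc n_le]

/-- **The centraliser `H` of `z1` is perfect.** -/
theorem commutator_H : commutator ↥H = ⊤ := by
  refine commutator_eq_top_of_orders closure_cH ?_ ?_ ?_ ?_ ?_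
  · exact pow_eq_one_of_code n_le enc_c1H chk_pows.1
  · exact pow_eq_one_of_code n_le enc_c2H chk_pows.2.1
  · exact pow_eq_one_of_code n_le (by rw [enc_mulH, enc_c1H, enc_c2H]) chk_pows.2.2.1
  · exact pow_eq_one_of_code n_le (by rw [enc_mulH, enc_mulH, enc_c1H, enc_c2H]) chk_pows.2.2.2.1
  · exact pow_eq_one_of_code n_le (by rw [enc_mulH, enc_mulH, enc_mulH, enc_c1H, enc_c2H]) chk_pows.2.2.2.2

/-- the centraliser of `z1` in `↥P` is the image of `H` -/
theorem commutator_centralizer_z1 : commutator ↥(Subgroup.centralizer ({z1} : Set ↥P)) = ⊤ := by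
  have hmem : ∀ x : ↥H, (⟨x.1, H_le x.2⟩ : ↥P) ∈ Subgroup.centralizer ({z1} : Set ↥P) := by
    intro x
    rw [Subgroup.mem_centralizer_singleton_iff]
    apply Subtype.ext
    have := H_le_cent x.2
    rw [Subgroup.mem_centralizer_singleton_iff] at this
    exact this
  let f : ↥H →* ↥(Subgroup.centralizer ({z1} : Set ↥P)) :=
    { toFun := fun x => ⟨⟨x.1, H_le x.2⟩, hmem x⟩
      map_one' := rfl
      map_mul' := fun _ _ => rfl }
  apply commutator_eq_top_of_surjective f _ commutator_H
  intro y
  have hy := Subgroup.mem_centralizer_singleton_iff.1 y.2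
  exact ⟨⟨y.1.1, mem_H_of_comm y.1 hy⟩, rfl⟩

/-- an element conjugating `z1` to `bP ^ 7` -/
noncomputable def g0 : ↥P := reg slpC 0

theorem enc_g0 : enc 276 g0.1 = cg0 := by
  have h := chk_g0.1
  rw [runK_eq] at h
  exact (enc_reg _ _).trans h

theorem enc_g0i : enc 276 (g0⁻¹).1 = cg0i := by rw [enc_inv, enc_g0]; exact chk_g0.2.1

theorem g0_conj : g0 * z1 * g0⁻¹ = bP ^ 7 := by
  apply Subtype.ext
  apply enc_injective n_le
  show enc 276 (g0.1 * z1.1 * g0.1⁻¹) = enc 276 (bP.1 ^ 7)
  rw [← pconj_enc n_le, enc_g0, enc_zs.1, ← Subgroup.coe_inv, enc_g0i, ← ppow_enc n_le, enc_b]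
  exact chk_g0.2.2

/-- **The centraliser of the involution `bP ^ 7` (36 fixed points) is perfect.** -/
theorem commutator_centralizer_b7 : commutator ↥(Subgroup.centralizer ({bP ^ 7} : Set ↥P)) = ⊤ := by
  rw [← g0_conj]
  exact commutator_centralizer_conj g0 z1 commutator_centralizer_z1

/-- the centraliser of every conjugate of `z1` is perfect -/
theorem commutator_centralizer_of_conj (g : ↥P) :
    commutator ↥(Subgroup.centralizer ({g * z1 * g⁻¹} : Set ↥P)) = ⊤ :=
  commutator_centralizer_conj g z1 commutator_centralizer_z1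

end Cfsg.Agent.Co3P
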